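import Cfsg.Agent.H198.FC.DefsB

/-!
# S5764 [MAIN]: the abstract reduction, `G` embeds in `Aut(T)` (helper199)
-/

set_option autoImplicit false

namespace Cfsg.Agent.H199.FC

open Cfsg.Agent.H198.FC

universe u

theorem five_of_fiveAut {G : Type u} [Group G] (T : Subgroup G) (hT : T.Normal)
    (hcent : Subgroup.centralizer (T : Set G) = ⊥) {P : Type} [Group P] (e : ↥T ≃* P) (hP : FiveAut P)
    (S : Subgroup G) (hS : Group.IsSolvable ↥S) :
    ∃ x₁ x₂ x₃ x₄ : G, S ⊓ (S).map (MulAut.conj x₁).toMonoidHom ⊓ (S).map (MulAut.conj x₂).toMonoidHom ⊓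
      (S).map (MulAut.conj x₃).toMonoidHom ⊓ (S).map (MulAut.conj x₄).toMonoidHom = ⊥ := by
  classical
  let φ : G →* MulAut P := ((MulAut.congr e : MulAut T ≃* MulAut P) : MulAut T →* MulAut P).comp
    (MulAut.conjNormal (H := T))
  have hφ : ∀ g : G, φ g = 1 → g = 1 := by
    intro g hg
    have h1 : (MulAut.conjNormal g : MulAut T) = 1 := (MulEquiv.map_eq_one_iff (MulAut.congr e)).1 hg
    have h2 : g ∈ Subgroup.centralizer (T : Set G) := by
      rw [Subgroup.mem_centralizer_iff]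
      intro t ht
      have h3 := congrArg Subtype.val (DFunLike.congr_fun h1 ⟨t, ht⟩)
      rw [MulAut.conjNormal_apply] at h3
      have h4 : g * t * g⁻¹ = t := h3
      rw [mul_inv_eq_iff_eq_mul] at h4
      exact h4.symm
    rw [hcent, Subgroup.mem_bot] at h2
    exact h2
  have hconj : ∀ t : T, φ (t : G) = MulAut.conj (e t) := by
    intro t
    ext1 p
    obtain ⟨s, rfl⟩ := e.surjective p
    change e (MulAut.conjNormal (t : G) (e.symm (e s))) = _
    rw [MulEquiv.symm_apply_apply, MulAut.conj_apply, ← map_inv, ← map_mul, ← map_mul]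
    congr 1
  have : Group.IsSolvable (S.map φ) := by
    have := hS
    exact Group.isSolvable_of_surjective (φ.subgroupMap_surjective S)
  obtain ⟨x, hx⟩ := hP (S.map φ) this
  let y : Fin 4 → G := fun i => ((e.symm (x i))⁻¹ : T)
  have hy : ∀ i, ∀ g ∈ S.map (MulAut.conj (y i)).toMonoidHom,
      MulAut.conj (x i) * φ g * (MulAut.conj (x i))⁻¹ ∈ S.map φ := by
    rintro i _ ⟨s, hs, rfl⟩
    refine ⟨s, hs, ?_⟩
    have h1 : φ ((e.symm (x i) : T) : G) = MulAut.conj (x i) := by rw [hconj, MulEquiv.apply_symm_apply]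
    rw [← h1, ← map_inv, ← map_mul, ← map_mul]
    congr 1
    change s = ((e.symm (x i) : T) : G) * ((((e.symm (x i))⁻¹ : T) : G) * s * (((e.symm (x i))⁻¹ : T) : G)⁻¹) *
      ((e.symm (x i) : T) : G)⁻¹
    rw [Subgroup.coe_inv]
    group
  refine ⟨y 0, y 1, y 2, y 3, ?_⟩
  rw [Subgroup.eq_bot_iff_forall]
  rintro g ⟨⟨⟨⟨h0, h1⟩, h2⟩, h3⟩, h4⟩
  refine hφ g (hx _ ⟨g, h0, rfl⟩ ?_)
  intro i
  fin_cases i
  · exact hy 0 g h1
  · exact hy 1 g h2
  · exact hy 2 g h3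
  · exact hy 3 g h4

/-- **[MAIN]** -/
theorem stmtMain : StmtMain.{u} := by
  intro hL hU hSp G _ _ T hT _ _ hcent hsoc S hS
  rcases hsoc with ⟨F, _, _, n, h1, h2, ⟨e⟩⟩ | ⟨F, _, _, n, q, h1, h2, h3, ⟨e⟩⟩ | ⟨F, _, _, m, h1, h2, ⟨e⟩⟩
  · exact five_of_fiveAut T hT hcent e (hL F n h1 h2) S hS
  · exact five_of_fiveAut T hT hcent e (hU F n q h1 h2 h3) S hS
  · exact five_of_fiveAut T hT hcent e (hSp F m h1 h2) S hS

end Cfsg.Agent.H199.FC
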